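import Mathlib
import Groth.Agent.Lib.Helper28.TensorCxComp
import Groth.Agent.Lib.Helper28.TensorCxRel

/-!
# Exact pairings of cochain complexes of modules: element level API

Element-level formulas for the associator and the unitors of the tensor product of cochain complexes,
and the algebra lemma: if `id` lies in the image of `dualTensorHom`, the module is finite projective.
-/

set_option autoImplicit false
universe u
open CategoryTheory CategoryTheory.Limits MonoidalCategory HomologicalComplex TensorProduct

namespace Groth.Agent.Lib.Helper2.ExactPair

open Groth.Agent.Lib.Helper28.TensorCx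

section Algebra

variable {R P : Type*} [CommRing R] [AddCommGroup P] [Module R P]

theorem finite_projective_of_dualTensorHom (t : Module.Dual R P ⊗[R] P)
    (ht : dualTensorHom R P P t = LinearMap.id) :
    Module.Finite R P ∧ Module.Projective R P := by
  classical
  obtain ⟨S, hS⟩ := TensorProduct.exists_finset t
  let i : P →ₗ[R] (S → R) := LinearMap.pi (fun k => k.1.1)
  let s : (S → R) →ₗ[R] P := ∑ k : S, (LinearMap.proj k).smulRight k.1.2
  have hsi : s.comp i = LinearMap.id := by
    apply LinearMap.ext
    intro m
    have h1 : (dualTensorHom R P P t) m = ∑ k : S, (k.1.1 m) • k.1.2 := by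
      rw [hS, map_sum, LinearMap.sum_apply, ← Finset.sum_coe_sort S]
      refine Finset.sum_congr rfl (fun k _ => ?_)
      rw [dualTensorHom_apply]
    rw [ht] at h1
    rw [LinearMap.comp_apply, LinearMap.id_apply]
    change (∑ k : S, (LinearMap.proj k).smulRight k.1.2) (i m) = m
    rw [LinearMap.sum_apply]
    conv_rhs => rw [← LinearMap.id_apply (R := R) m, h1]
    rfl
  have hsurj : Function.Surjective s := fun m => ⟨i m, LinearMap.congr_fun hsi m⟩
  exact ⟨Module.Finite.of_surjective s hsurj, Module.Projective.of_split i s hsi⟩

end Algebra

end Groth.Agent.Lib.Helper2.ExactPair
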