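import Mathlib
import Groth.Agent.Lib.Helper2.ExactPair.Basic

set_option autoImplicit false
universe u
open CategoryTheory CategoryTheory.Limits MonoidalCategory HomologicalComplex TensorProduct

namespace Groth.Agent.Lib.Helper2.ExactPair

open Groth.Agent.Lib.Helper28.TensorCx

variable {R : Type u} [CommRing R]

abbrev Cx (R : Type u) [CommRing R] := CochainComplex (ModuleCat.{u} R) ℤ

section Assoc

variable (K L P : Cx R)

theorem assoc_hom_ι (a b c ab bc n : ℤ) (hab : a + b = ab) (h : ab + c = n) (hbc : b + c = bc)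
    (h' : a + bc = n) (x : K.X a) (y : L.X b) (z : P.X c) :
    ((α_ K L P).hom.f n).hom (ι (K ⊗ L) P n ab c h ((ι K L ab a b hab (x ⊗ₜ y)) ⊗ₜ z)) =
      ι K (L ⊗ P) n a bc h' (x ⊗ₜ (ι L P bc b c hbc (y ⊗ₜ z))) := by
  have hr : ComplexShape.r (ComplexShape.up ℤ) (ComplexShape.up ℤ) (ComplexShape.up ℤ)
      (ComplexShape.up ℤ) (ComplexShape.up ℤ) (a, b, c) = n := by
    subst hab
    exact h
  have h1 := ι_mapBifunctorAssociatorX_hom (curriedAssociatorNatIso (ModuleCat.{u} R)) K L P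
    (ComplexShape.up ℤ) (ComplexShape.up ℤ) (ComplexShape.up ℤ) a b c n hr
  rw [mapBifunctor₁₂.ι_eq _ _ K L P _ _ a b c ab n hab h,
    mapBifunctor₂₃.ι_eq _ _ K L P _ _ _ a b c bc n hbc h'] at h1
  have h2 := congrArg (fun φ => φ.hom ((x ⊗ₜ y) ⊗ₜ z)) h1
  exact h2

theorem assoc_inv_ι (a b c ab bc n : ℤ) (hab : a + b = ab) (h : ab + c = n) (hbc : b + c = bc)
    (h' : a + bc = n) (x : K.X a) (y : L.X b) (z : P.X c) :
    ((α_ K L P).inv.f n).hom (ι K (L ⊗ P) n a bc h' (x ⊗ₜ (ι L P bc b c hbc (y ⊗ₜ z)))) =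
      ι (K ⊗ L) P n ab c h ((ι K L ab a b hab (x ⊗ₜ y)) ⊗ₜ z) := by
  rw [← assoc_hom_ι K L P a b c ab bc n hab h hbc h' x y z]
  have h1 : (α_ K L P).hom.f n ≫ (α_ K L P).inv.f n = 𝟙 _ := by
    rw [← HomologicalComplex.comp_f, Iso.hom_inv_id, HomologicalComplex.id_f]
  exact congrArg (fun φ => φ.hom (ι (K ⊗ L) P n ab c h ((ι K L ab a b hab (x ⊗ₜ y)) ⊗ₜ z))) h1

end Assoc

section Whisker

variable {K K' : Cx R} (f : K ⟶ K') (L : Cx R)

theorem whiskerRight_ι (n a b : ℤ) (h : a + b = n) (x : K.X a) (y : L.X b) :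
    ((f ▷ L).f n).hom (ι K L n a b h (x ⊗ₜ y)) = ι K' L n a b h ((f.f a).hom x ⊗ₜ y) := by
  have := map_ι f (𝟙 L) n a b h (x ⊗ₜ y)
  exact this

theorem whiskerLeft_ι (n a b : ℤ) (h : a + b = n) (y : L.X a) (x : K.X b) :
    ((L ◁ f).f n).hom (ι L K n a b h (y ⊗ₜ x)) = ι L K' n a b h (y ⊗ₜ (f.f b).hom x) := by
  have := map_ι (𝟙 L) f n a b h (y ⊗ₜ x)
  exact this

end Whisker

section Unit

variable (R)

/-- the unit complex -/
noncomputable abbrev T : Cx R := 𝟙_ (Cx R)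

/-- the coordinate on the degree 0 part of the unit complex -/
noncomputable def cf : (T R).X 0 →ₗ[R] R :=
  (singleObjXSelf (ComplexShape.up ℤ) 0 (𝟙_ (ModuleCat.{u} R))).hom.hom

/-- the unit element -/
noncomputable def u₀ : (T R).X 0 :=
  (singleObjXSelf (ComplexShape.up ℤ) 0 (𝟙_ (ModuleCat.{u} R))).inv.hom (1 : R)

theorem cf_u₀ : cf R (u₀ R) = 1 := by
  have := (singleObjXSelf (ComplexShape.up ℤ) 0 (𝟙_ (ModuleCat.{u} R))).inv_hom_id
  exact congrArg (fun φ => φ.hom (1 : R)) this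

theorem eq_cf_smul (t : (T R).X 0) : t = cf R t • u₀ R := by
  have h := (singleObjXSelf (ComplexShape.up ℤ) 0 (𝟙_ (ModuleCat.{u} R))).hom_inv_id
  have h2 : (singleObjXSelf (ComplexShape.up ℤ) 0 (𝟙_ (ModuleCat.{u} R))).inv.hom (cf R t) = t :=
    congrArg (fun φ => φ.hom t) h
  have h3 : cf R t = cf R t • (1 : R) := by rw [smul_eq_mul, mul_one]
  rw [← h2]
  conv_lhs => rw [h3]
  rw [map_smul]
  rw [h2]
  rfl

theorem isZero_T (j : ℤ) (hj : j ≠ 0) : IsZero ((T R).X j) :=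
  isZero_single_obj_X (ComplexShape.up ℤ) 0 (𝟙_ (ModuleCat.{u} R)) j hj

variable {R} (K : Cx R)

theorem leftUnitor_inv_apply (i : ℤ) (m : K.X i) :
    ((λ_ K).inv.f i).hom m = ι (T R) K i 0 i (zero_add i) (u₀ R ⊗ₜ m) := by
  have h := leftUnitor'_inv K i
  have h2 := congrArg (fun φ => φ.hom m) h
  exact h2

theorem rightUnitor_inv_apply (i : ℤ) (m : K.X i) :
    ((ρ_ K).inv.f i).hom m = ι K (T R) i i 0 (add_zero i) (m ⊗ₜ u₀ R) := by
  have h := rightUnitor'_inv K i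
  have h2 := congrArg (fun φ => φ.hom m) h
  exact h2

end Unit

section Main

variable (M N : Cx R) [ExactPairing M N]

/-- the coevaluation element -/
noncomputable def coev : (M ⊗ N).X 0 := ((η_ M N).f 0).hom (u₀ R)

theorem step1_M (p : ℤ) (m : M.X p) :
    ((M ◁ ε_ M N).f p).hom (((α_ M N M).hom.f p).hom
        (ι (M ⊗ N) M p 0 p (zero_add p) (coev M N ⊗ₜ m))) =
      ι M (T R) p p 0 (add_zero p) (m ⊗ₜ u₀ R) := by
  have h := ExactPairing.evaluation_coevaluation M N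
  have hx : ((λ_ M).inv.f p).hom m = ι (T R) M p 0 p (zero_add p) (u₀ R ⊗ₜ m) :=
    leftUnitor_inv_apply M p m
  have hL : ((η_ M N ▷ M).f p).hom (ι (T R) M p 0 p (zero_add p) (u₀ R ⊗ₜ m)) =
      ι (M ⊗ N) M p 0 p (zero_add p) (coev M N ⊗ₜ m) :=
    whiskerRight_ι (η_ M N) M p 0 p (zero_add p) (u₀ R) m
  have hR : ((λ_ M).hom.f p).hom (((λ_ M).inv.f p).hom m) = m := by
    have : (λ_ M).inv.f p ≫ (λ_ M).hom.f p = 𝟙 _ := by
      rw [← HomologicalComplex.comp_f, Iso.inv_hom_id, HomologicalComplex.id_f]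
    exact congrArg (fun φ => φ.hom m) this
  have h2 := congrArg (fun φ => (φ.f p).hom (((λ_ M).inv.f p).hom m)) h
  simp only [HomologicalComplex.comp_f, ModuleCat.hom_comp, LinearMap.comp_apply] at h2
  rw [hR, rightUnitor_inv_apply] at h2
  rw [hx, hL] at h2
  exact h2

/-- the contraction `M^p ⊗ T^0 → M^p` -/
noncomputable def contrR (K : Cx R) (p : ℤ) : (K.X p ⊗ (T R).X 0 : ModuleCat.{u} R) →ₗ[R] K.X p :=
  (TensorProduct.rid R (K.X p)).toLinearMap ∘ₗ (LinearMap.lTensor (K.X p) (cf R))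

theorem contrR_tmul (K : Cx R) (p : ℤ) (m : K.X p) (t : (T R).X 0) :
    contrR K p (m ⊗ₜ t) = cf R t • m := by
  unfold contrR
  rw [LinearMap.comp_apply, LinearMap.lTensor_tmul]
  exact TensorProduct.rid_tmul _ _

/-- the contraction `T^0 ⊗ N^q → N^q` -/
noncomputable def contrL (K : Cx R) (q : ℤ) : ((T R).X 0 ⊗ K.X q : ModuleCat.{u} R) →ₗ[R] K.X q :=
  (TensorProduct.lid R (K.X q)).toLinearMap ∘ₗ (LinearMap.rTensor (K.X q) (cf R))

theorem contrL_tmul (K : Cx R) (q : ℤ) (t : (T R).X 0) (n : K.X q) :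
    contrL K q (t ⊗ₜ n) = cf R t • n := by
  unfold contrL
  rw [LinearMap.comp_apply, LinearMap.rTensor_tmul]
  exact TensorProduct.lid_tmul _ _

/-- the endomorphism of `M^p` attached to an element of `(M ⊗ N)^0` -/
noncomputable def psiM (p : ℤ) : (M ⊗ N).X 0 →ₗ[R] (M.X p →ₗ[R] M.X p) :=
  TensorProduct.curry (contrR M p ∘ₗ π M (T R) p p 0 (add_zero p) ∘ₗ ((M ◁ ε_ M N).f p).hom ∘ₗ
    ((α_ M N M).hom.f p).hom ∘ₗ ι (M ⊗ N) M p 0 p (zero_add p))

theorem psiM_apply (p : ℤ) (e : (M ⊗ N).X 0) (m : M.X p) :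
    psiM M N p e m = contrR M p (π M (T R) p p 0 (add_zero p) (((M ◁ ε_ M N).f p).hom
      (((α_ M N M).hom.f p).hom (ι (M ⊗ N) M p 0 p (zero_add p) (e ⊗ₜ m))))) := rfl

theorem psiM_coev (p : ℤ) : psiM M N p (coev M N) = LinearMap.id := by
  apply LinearMap.ext
  intro m
  rw [psiM_apply, step1_M, π_ι_self, contrR_tmul, cf_u₀, one_smul, LinearMap.id_apply]

/-- the pairing `N^q → (M^p)^*` -/
noncomputable def phi (p q : ℤ) (hqp : q + p = 0) : N.X q →ₗ[R] (M.X p →ₗ[R] R) :=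
  TensorProduct.curry (cf R ∘ₗ ((ε_ M N).f 0).hom ∘ₗ ι N M 0 q p hqp)

theorem phi_apply (p q : ℤ) (hqp : q + p = 0) (n : N.X q) (m : M.X p) :
    phi M N p q hqp n m = cf R (((ε_ M N).f 0).hom (ι N M 0 q p hqp (n ⊗ₜ m))) := rfl

/-- the map `M^p ⊗ N^q → End(M^p)` -/
noncomputable def psiM' (p q : ℤ) (hqp : q + p = 0) :
    (M.X p ⊗ N.X q : ModuleCat.{u} R) →ₗ[R] (M.X p →ₗ[R] M.X p) :=
  dualTensorHom R (M.X p) (M.X p) ∘ₗ (TensorProduct.comm R (M.X p) (Module.Dual R (M.X p))).toLinearMap ∘ₗ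
    LinearMap.lTensor (M.X p) (phi M N p q hqp)

theorem psiM'_tmul (p q : ℤ) (hqp : q + p = 0) (m' : M.X p) (n' : N.X q) (m : M.X p) :
    psiM' M N p q hqp (m' ⊗ₜ n') m = phi M N p q hqp n' m • m' := by
  unfold psiM'
  rw [LinearMap.comp_apply, LinearMap.comp_apply, LinearMap.lTensor_tmul]
  erw [TensorProduct.comm_tmul]
  rw [dualTensorHom_apply]

theorem psiM_eq (p q : ℤ) (hpq : p + q = 0) (hqp : q + p = 0) :
    psiM M N p = psiM' M N p q hqp ∘ₗ π M N 0 p q hpq := by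
  apply lhom_ext
  intro a b hab y
  induction y using TensorProduct.induction_on with
  | zero => simp only [map_zero]
  | add y₁ y₂ h₁ h₂ => simp only [map_add, h₁, h₂]
  | tmul m' n' =>
    apply LinearMap.ext
    intro m
    rw [LinearMap.comp_apply, psiM_apply]
    by_cases ha : a = p
    · subst ha
      have hb : b = q := by omega
      subst hb
      rw [π_ι_self, psiM'_tmul, phi_apply,
        assoc_hom_ι M N M a b a 0 0 a hab (zero_add a) hqp (add_zero a) m' n' m,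
        whiskerLeft_ι (ε_ M N) M a a 0 (add_zero a), π_ι_self, contrR_tmul]
    · have hne : (a, b) ≠ (p, q) := fun h => ha (congrArg Prod.fst h)
      rw [π_ι_ne M N 0 a b hab p q hpq hne, map_zero, LinearMap.zero_apply,
        assoc_hom_ι M N M a b p 0 (b + p) p hab (zero_add p) rfl (by omega) m' n' m,
        whiskerLeft_ι (ε_ M N) M p a (b + p) (by omega),
        π_ι_ne M (T R) p a (b + p) (by omega) p 0 (add_zero p)
          (fun h => ha (congrArg Prod.fst h)), map_zero]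

end Main

section MainN

variable (M N : Cx R) [ExactPairing M N]

theorem step1_N (q : ℤ) (n : N.X q) :
    ((ε_ M N ▷ N).f q).hom (((α_ N M N).inv.f q).hom
        (ι N (M ⊗ N) q q 0 (add_zero q) (n ⊗ₜ coev M N))) =
      ι (T R) N q 0 q (zero_add q) (u₀ R ⊗ₜ n) := by
  have h := ExactPairing.coevaluation_evaluation M N
  have hx : ((ρ_ N).inv.f q).hom n = ι N (T R) q q 0 (add_zero q) (n ⊗ₜ u₀ R) :=
    rightUnitor_inv_apply N q n
  have hL : ((N ◁ η_ M N).f q).hom (ι N (T R) q q 0 (add_zero q) (n ⊗ₜ u₀ R)) =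
      ι N (M ⊗ N) q q 0 (add_zero q) (n ⊗ₜ coev M N) :=
    whiskerLeft_ι (η_ M N) N q q 0 (add_zero q) n (u₀ R)
  have hR : ((ρ_ N).hom.f q).hom (((ρ_ N).inv.f q).hom n) = n := by
    have : (ρ_ N).inv.f q ≫ (ρ_ N).hom.f q = 𝟙 _ := by
      rw [← HomologicalComplex.comp_f, Iso.inv_hom_id, HomologicalComplex.id_f]
    exact congrArg (fun φ => φ.hom n) this
  have h2 := congrArg (fun φ => (φ.f q).hom (((ρ_ N).inv.f q).hom n)) h
  simp only [HomologicalComplex.comp_f, ModuleCat.hom_comp, LinearMap.comp_apply] at h2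
  rw [hR, leftUnitor_inv_apply] at h2
  rw [hx, hL] at h2
  exact h2

/-- the endomorphism of `N^q` attached to an element of `(M ⊗ N)^0` -/
noncomputable def psiN (q : ℤ) : (M ⊗ N).X 0 →ₗ[R] (N.X q →ₗ[R] N.X q) :=
  (TensorProduct.curry (contrL N q ∘ₗ π (T R) N q 0 q (zero_add q) ∘ₗ ((ε_ M N ▷ N).f q).hom ∘ₗ
    ((α_ N M N).inv.f q).hom ∘ₗ ι N (M ⊗ N) q q 0 (add_zero q))).flip

theorem psiN_apply (q : ℤ) (e : (M ⊗ N).X 0) (n : N.X q) :
    psiN M N q e n = contrL N q (π (T R) N q 0 q (zero_add q) (((ε_ M N ▷ N).f q).hom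
      (((α_ N M N).inv.f q).hom (ι N (M ⊗ N) q q 0 (add_zero q) (n ⊗ₜ e))))) := rfl

theorem psiN_coev (q : ℤ) : psiN M N q (coev M N) = LinearMap.id := by
  apply LinearMap.ext
  intro n
  rw [psiN_apply, step1_N, π_ι_self, contrL_tmul, cf_u₀, one_smul, LinearMap.id_apply]

/-- the map `M^p ⊗ N^q → End(N^q)` -/
noncomputable def psiN' (p q : ℤ) (hqp : q + p = 0) :
    (M.X p ⊗ N.X q : ModuleCat.{u} R) →ₗ[R] (N.X q →ₗ[R] N.X q) :=
  dualTensorHom R (N.X q) (N.X q) ∘ₗ LinearMap.rTensor (N.X q) (phi M N p q hqp).flip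

theorem psiN'_tmul (p q : ℤ) (hqp : q + p = 0) (m' : M.X p) (n' : N.X q) (n : N.X q) :
    psiN' M N p q hqp (m' ⊗ₜ n') n = phi M N p q hqp n m' • n' := by
  unfold psiN'
  rw [LinearMap.comp_apply, LinearMap.rTensor_tmul, dualTensorHom_apply]
  rfl

theorem psiN_eq (p q : ℤ) (hpq : p + q = 0) (hqp : q + p = 0) :
    psiN M N q = psiN' M N p q hqp ∘ₗ π M N 0 p q hpq := by
  apply lhom_ext
  intro a b hab y
  induction y using TensorProduct.induction_on with
  | zero => simp only [map_zero]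
  | add y₁ y₂ h₁ h₂ => simp only [map_add, h₁, h₂]
  | tmul m' n' =>
    apply LinearMap.ext
    intro n
    rw [LinearMap.comp_apply, psiN_apply]
    by_cases hb : b = q
    · subst hb
      have ha : a = p := by omega
      subst ha
      rw [π_ι_self, psiN'_tmul, phi_apply,
        assoc_inv_ι N M N b a b 0 0 b hqp (zero_add b) hab (add_zero b) n m' n',
        whiskerRight_ι (ε_ M N) N b 0 b (zero_add b), π_ι_self, contrL_tmul]
    · have hne : (a, b) ≠ (p, q) := fun h => hb (congrArg Prod.snd h)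
      rw [π_ι_ne M N 0 a b hab p q hpq hne, map_zero, LinearMap.zero_apply,
        assoc_inv_ι N M N q a b (q + a) 0 q rfl (by omega) hab (add_zero q) n m' n',
        whiskerRight_ι (ε_ M N) N q (q + a) b (by omega),
        π_ι_ne (T R) N q (q + a) b (by omega) 0 q (zero_add q)
          (fun h => hb (congrArg Prod.snd h)), map_zero]

end MainN

section Final

variable (M N : Cx R) [ExactPairing M N]

theorem finite_projective_M (M N : Cx R) [ExactPairing M N] (p : ℤ) : Module.Finite R (M.X p) ∧ Module.Projective R (M.X p) := by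
  have h := psiM_coev M N p
  rw [psiM_eq M N p (-p) (by omega) (by omega), LinearMap.comp_apply] at h
  unfold psiM' at h
  exact finite_projective_of_dualTensorHom _ h

theorem finite_projective_N (M N : Cx R) [ExactPairing M N] (q : ℤ) : Module.Finite R (N.X q) ∧ Module.Projective R (N.X q) := by
  have h := psiN_coev M N q
  rw [psiN_eq M N (-q) q (by omega) (by omega), LinearMap.comp_apply] at h
  unfold psiN' at h
  exact finite_projective_of_dualTensorHom _ h

theorem isZero_M_of_π (p q : ℤ) (hpq : p + q = 0) (hqp : q + p = 0)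
    (h : π M N 0 p q hpq (coev M N) = 0) : IsZero (M.X p) := by
  have h1 := psiM_coev M N p
  rw [psiM_eq M N p q hpq hqp, LinearMap.comp_apply, h, map_zero] at h1
  have : Subsingleton (M.X p) := ⟨fun x y => by
    have hx := LinearMap.congr_fun h1 x
    have hy := LinearMap.congr_fun h1 y
    rw [LinearMap.zero_apply, LinearMap.id_apply] at hx hy
    rw [← hx, ← hy]⟩
  exact ModuleCat.isZero_of_subsingleton _

theorem isZero_N_of_π (p q : ℤ) (hpq : p + q = 0) (hqp : q + p = 0)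
    (h : π M N 0 p q hpq (coev M N) = 0) : IsZero (N.X q) := by
  have h1 := psiN_coev M N q
  rw [psiN_eq M N p q hpq hqp, LinearMap.comp_apply, h, map_zero] at h1
  have : Subsingleton (N.X q) := ⟨fun x y => by
    have hx := LinearMap.congr_fun h1 x
    have hy := LinearMap.congr_fun h1 y
    rw [LinearMap.zero_apply, LinearMap.id_apply] at hx hy
    rw [← hx, ← hy]⟩
  exact ModuleCat.isZero_of_subsingleton _

theorem exists_bound : ∃ B : ℕ, ∀ i : ℤ, (i < -(B : ℤ) ∨ (B : ℤ) < i) →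
    IsZero (M.X i) ∧ IsZero (N.X i) := by
  obtain ⟨s, hs⟩ := exists_finset_support M N 0 (coev M N)
  refine ⟨s.sup (fun x => x.1.natAbs), fun i hi => ⟨?_, ?_⟩⟩
  · apply isZero_M_of_π M N i (-i) (by omega) (by omega)
    apply hs
    intro hmem
    have := Finset.le_sup (f := fun x : ℤ × ℤ => x.1.natAbs) hmem
    simp only at this
    omega
  · apply isZero_N_of_π M N (-i) i (by omega) (by omega)
    apply hs
    intro hmem
    have := Finset.le_sup (f := fun x : ℤ × ℤ => x.1.natAbs) hmem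
    simp only at this
    omega

end Final

end Groth.Agent.Lib.Helper2.ExactPair
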